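import Cfsg.Agent.Helper17.Fi22Out.Tree

/-! The transposition `dT j` attached to the point `j`; the pattern of commutation of `dT j` with
its conjugates under the powers of `uE` and with `dT 1049` determines `j` up to the action of
`⟨uE, dT 1049⟩`. -/

set_option autoImplicit false
set_option linter.all false
set_option maxRecDepth 100000

noncomputable section

namespace Cfsg.Agent.Helper17.Fi22Out

open Cfsg.Spor Cfsg.Agent.Helper17.Fi22aTC Cfsg.Agent.Helper17.Fi22Trans

theorem conj_zG_eq {a b : G} (h : phi a 0 = phi b 0) : a * zG * a⁻¹ = b * zG * b⁻¹ := by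
  have hc : b⁻¹ * a ∈ Hs := by
    rw [← stab0, map_mul, map_inv, Equiv.Perm.mul_apply, h, Equiv.Perm.inv_eq_iff_eq]
  rw [← cent_eq, Subgroup.mem_centralizer_iff] at hc
  have hz := hc zG (Set.mem_singleton _)
  have e1 : a * zG * a⁻¹ = b * ((b⁻¹ * a) * zG * (b⁻¹ * a)⁻¹) * b⁻¹ := by group
  rw [e1, ← hz]
  group

theorem comm_iff (a b : G) :
    (a * zG * a⁻¹) * (b * zG * b⁻¹) = (b * zG * b⁻¹) * (a * zG * a⁻¹) ↔
      phi zG (phi (a⁻¹ * b) 0) = phi (a⁻¹ * b) 0 := by
  set c := a⁻¹ * b with hc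
  have h1 : (a * zG * a⁻¹) * (b * zG * b⁻¹) = (b * zG * b⁻¹) * (a * zG * a⁻¹) ↔
      zG * (c⁻¹ * zG * c) = (c⁻¹ * zG * c) * zG := by
    constructor
    · intro h
      have e1 : zG * (c⁻¹ * zG * c) = b⁻¹ * ((b * zG * b⁻¹) * (a * zG * a⁻¹)) * b := by
        rw [hc]; group
      have e2 : (c⁻¹ * zG * c) * zG = b⁻¹ * ((a * zG * a⁻¹) * (b * zG * b⁻¹)) * b := by
        rw [hc]; group
      rw [e1, e2, h]
    · intro h
      have e1 : (a * zG * a⁻¹) * (b * zG * b⁻¹) = b * ((c⁻¹ * zG * c) * zG) * b⁻¹ := by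
        rw [hc]; group
      have e2 : (b * zG * b⁻¹) * (a * zG * a⁻¹) = b * (zG * (c⁻¹ * zG * c)) * b⁻¹ := by
        rw [hc]; group
      rw [e1, e2, h]
  rw [h1]
  have h2 : zG * (c⁻¹ * zG * c) = (c⁻¹ * zG * c) * zG ↔ c⁻¹ * zG * c ∈ Hs := by
    rw [← cent_eq, Subgroup.mem_centralizer_iff]
    constructor
    · intro h y hy
      rw [Set.mem_singleton_iff] at hy
      rw [hy]; exact h
    · intro h
      exact h zG (Set.mem_singleton _)
  rw [h2, ← stab0, map_mul, map_mul, map_inv, Equiv.Perm.mul_apply, Equiv.Perm.mul_apply,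
    Equiv.Perm.inv_eq_iff_eq]

/-- the transposition attached to the point `j` -/
def dT (j : ℕ) : G := tG j * zG * (tG j)⁻¹

theorem dT_eq {j : ℕ} (hj : j < N) {a : G} (h : phi a 0 = j) : a * zG * a⁻¹ = dT j :=
  conj_zG_eq (by rw [h, phi_tG hj])

/-- the element of order 11 -/
def uE : G := prodw u0

theorem u0_lt : ∀ l ∈ u0, l < nl := by decide

def itW (i : ℕ) : ℕ → ℕ :=
  Nat.rec (motive := fun _ => ℕ → ℕ) (fun p => p) (fun _ ih p => force (evalL u0 p) ih) i

theorem itW_succ (i p : ℕ) : itW (i + 1) p = itW i (evalL u0 p) := by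
  show force (evalL u0 p) (itW i) = _
  rw [force_eq]

theorem phi_uE {p : ℕ} (hp : p < N) : phi uE p = evalL u0 p ∧ evalL u0 p < N := by
  have h1 : phi uE p = evalL u0 p := by
    rw [uE, phi_prodw_apply _ u0_lt, evalw_eq_evalL _ u0_lt hp]
  refine ⟨h1, ?_⟩
  rw [← evalw_eq_evalL _ u0_lt hp]
  exact evalw_lt _ hp

theorem phi_uE_pow (i : ℕ) {p : ℕ} (hp : p < N) : phi (uE ^ i) p = itW i p ∧ itW i p < N := by
  induction i generalizing p with
  | zero => exact ⟨by simp [itW], hp⟩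
  | succ i ih =>
    obtain ⟨h1, h2⟩ := phi_uE hp
    obtain ⟨h3, h4⟩ := ih h2
    rw [pow_succ, map_mul, Equiv.Perm.mul_apply, h1, itW_succ]
    exact ⟨h3, h4⟩

/-- does `dT j` commute with its conjugate under `uE ^ i`? -/
def cT (j i : ℕ) : Bool := force (upF 40 j (itW i j)) fun p => Nat.beq (evalL wz p) p

theorem cT_iff {j : ℕ} (hj : j < N) (i : ℕ) :
    cT j i = true ↔
      dT j * (uE ^ i * dT j * (uE ^ i)⁻¹) = (uE ^ i * dT j * (uE ^ i)⁻¹) * dT j := by
  have e1 : uE ^ i * dT j * (uE ^ i)⁻¹ = (uE ^ i * tG j) * zG * (uE ^ i * tG j)⁻¹ := by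
    rw [dT]; group
  rw [e1, dT, comm_iff]
  obtain ⟨h1, h2⟩ := phi_uE_pow i hj
  have e2 : phi ((tG j)⁻¹ * (uE ^ i * tG j)) 0 = upF 40 j (itW i j) := by
    rw [map_mul, map_mul, Equiv.Perm.mul_apply, Equiv.Perm.mul_apply, phi_tG hj, h1,
      phi_tG_inv hj h2]
  have h3 : upF 40 j (itW i j) < N := by
    rw [← phi_tG_inv hj h2, tG, ← prodw_reverse]
    have hlt : ∀ l ∈ (tW 40 j).reverse, l < nl := fun l hl =>
      tW_lt 40 hj l (List.mem_reverse.mp hl)
    rw [phi_prodw_apply _ hlt]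
    exact evalw_lt _ h2
  rw [e2, cT, force_eq]
  have e3 : phi zG (upF 40 j (itW i j)) = evalL wz (upF 40 j (itW i j)) := by
    rw [zG, phi_prodw_apply _ wz_lt, evalw_eq_evalL _ wz_lt h3]
  rw [e3]
  exact nbeq

/-- does `dT j` commute with `dT 1049`? -/
def cP (j : ℕ) : Bool := force (upF 40 j 1049) fun p => Nat.beq (evalL wz p) p

theorem cP_iff {j : ℕ} (hj : j < N) :
    cP j = true ↔ dT j * dT 1049 = dT 1049 * dT j := by
  have hp : (1049 : ℕ) < N := by decide
  rw [dT, dT, comm_iff]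
  have e2 : phi ((tG j)⁻¹ * tG 1049) 0 = upF 40 j 1049 := by
    rw [map_mul, Equiv.Perm.mul_apply, phi_tG hp, phi_tG_inv hj hp]
  have h3 : upF 40 j 1049 < N := by
    rw [← phi_tG_inv hj hp, tG, ← prodw_reverse]
    have hlt : ∀ l ∈ (tW 40 j).reverse, l < nl := fun l hl =>
      tW_lt 40 hj l (List.mem_reverse.mp hl)
    rw [phi_prodw_apply _ hlt]
    exact evalw_lt _ hp
  rw [e2, cP, force_eq]
  have e3 : phi zG (upF 40 j 1049) = evalL wz (upF 40 j 1049) := by
    rw [zG, phi_prodw_apply _ wz_lt, evalw_eq_evalL _ wz_lt h3]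
  rw [e3]
  exact nbeq

def wit (j : ℕ) : ℕ := Nat.land (Nat.shiftRight witT (Nat.mul 4 j)) 15

def memN (L : List ℕ) (j : ℕ) : Bool :=
  List.rec (motive := fun _ => Bool) false (fun a _ ih => cond (Nat.beq a j) true ih) L

theorem memN_iff (L : List ℕ) (j : ℕ) : memN L j = true ↔ j ∈ L := by
  induction L with
  | nil => simp [memN]
  | cons a L ih =>
    show cond (Nat.beq a j) true (memN L j) = true ↔ _
    by_cases h : a = j
    · subst h; simp [Nat.beq_refl]
    · have : Nat.beq a j = false := by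
        cases hb : Nat.beq a j
        · rfl
        · exact absurd (nbeq.mp hb) h
      rw [this]
      simp only [cond_false, List.mem_cons]
      rw [ih]
      constructor
      · intro h'; exact Or.inr h'
      · rintro (h' | h')
        · exact absurd h'.symm h
        · exact h'

/-- the pattern of the point `1` -/
def patB (i : ℕ) : Bool := Nat.beq i 1 || Nat.beq i 4

def chkP (i : ℕ) : Bool := Nat.beq i 0 || (cT 1 i == patB i)

theorem PAT : TCG.allD 6 chkP = true := by decide +kernel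

theorem PATP : cP 1 = false := by decide +kernel

theorem pat_ok {i : ℕ} (h1 : 1 ≤ i) (h2 : i ≤ 5) : cT 1 i = patB i := by
  have := (TCG.allD_iff _ _).mp PAT i (by omega)
  simp only [chkP, Bool.or_eq_true, beq_iff_eq] at this
  rcases this with h | h
  · exact absurd (nbeq.mp h) (by omega)
  · exact h

def chkC (j : ℕ) : Bool :=
  force (wit j) fun i => cond (Nat.beq i 0) (memN orbL j)
    (cond (Nat.beq i 6) (cP j) (Nat.ble i 5 && xor (cT j i) (patB i)))

theorem CAND : TCG.allD 3510 chkC = true := by decide +kernel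

end Cfsg.Agent.Helper17.Fi22Out
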