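import Cfsg.Agent.Helper17.Fi22Out.Cand

/-! The candidates: a point whose commutation pattern agrees with that of the point `1` lies in the
orbit of `1` under `⟨uE, tE⟩`. -/

set_option autoImplicit false
set_option linter.all false
set_option maxRecDepth 100000

noncomputable section

namespace Cfsg.Agent.Helper17.Fi22Out

open Cfsg.Spor Cfsg.Agent.Helper17.Fi22aTC Cfsg.Agent.Helper17.Fi22Trans

theorem chkC_all : ∀ j, j < N → chkC j = true := by
  intro j hj
  exact (TCG.allD_iff _ _).mp CAND j hj

theorem cand {j : ℕ} (hj : j < N) (h : ∀ i, 1 ≤ i → i ≤ 5 → cT j i = cT 1 i)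
    (hp : cP j = cP 1) : j ∈ orbL := by
  have hc := chkC_all j hj
  rw [chkC, force_eq] at hc
  by_cases h0 : wit j = 0
  · rw [h0] at hc
    exact (memN_iff _ _).mp hc
  · have hb : Nat.beq (wit j) 0 = false := by
      cases hb : Nat.beq (wit j) 0
      · rfl
      · exact absurd (nbeq.mp hb) h0
    rw [hb, cond_false] at hc
    by_cases h6 : wit j = 6
    · rw [h6] at hc
      have : cP j = true := hc
      rw [hp, PATP] at this
      exact absurd this (by simp)
    · have hb6 : Nat.beq (wit j) 6 = false := by
        cases hb : Nat.beq (wit j) 6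
        · rfl
        · exact absurd (nbeq.mp hb) h6
      rw [hb6, cond_false] at hc
      simp only [Bool.and_eq_true, Nat.ble_eq] at hc
      have h1 : 1 ≤ wit j := Nat.one_le_iff_ne_zero.mpr h0
      rw [h (wit j) h1 hc.1, pat_ok h1 hc.1] at hc
      simp at hc

/-- the word of the transposition `tE = dT 1049` -/
def tw : List ℕ := tp.reverse ++ (wz ++ tp)

/-- the base points of the two `uE`-orbits -/
def bpt (k : ℕ) : ℕ := cond (Nat.blt k 11) 1 (evalL tw 1)

theorem orb_eq : orbL = (List.range 22).map (fun k => itW (k % 11) (bpt k)) := by decide +kernel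

theorem orb_spec {j : ℕ} (hj : j ∈ orbL) :
    ∃ i, i < 11 ∧ (j = itW i 1 ∨ j = itW i (evalL tw 1)) := by
  rw [orb_eq, List.mem_map] at hj
  obtain ⟨k, hk, rfl⟩ := hj
  have hk' : k < 22 := List.mem_range.mp hk
  refine ⟨k % 11, Nat.mod_lt _ (by norm_num), ?_⟩
  by_cases h : k < 11
  · left
    have : Nat.blt k 11 = true := by rw [Nat.blt_eq]; exact h
    rw [bpt, this]; rfl
  · right
    have : Nat.blt k 11 = false := by
      cases hb : Nat.blt k 11
      · rfl
      · rw [Nat.blt_eq] at hb; exact absurd hb h
    rw [bpt, this]; rfl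

end Cfsg.Agent.Helper17.Fi22Out
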