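import Cfsg.Agent.Helper17.Fi22Out.CandMain

/-! The elements `xE`, `tE` (transpositions), `uE` (of order 11) and `nE` (normalizing `⟨uE⟩`):
orders, relations, generation. -/

set_option autoImplicit false
set_option linter.all false
set_option maxRecDepth 100000

noncomputable section

namespace Cfsg.Agent.Helper17.Fi22Out

open Cfsg.Spor Cfsg.Agent.Helper17.Fi22aTC Cfsg.Agent.Helper17.Fi22Trans

/-! ### the order of `uE` -/

theorem uE_pow : uE ^ 11 = 1 := by
  rw [uE, ← prodw_replicate]
  exact prodw_eq_one (by decide +kernel)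

theorem uE_ne : uE ≠ 1 := by
  intro h
  have h0 : (0 : ℕ) < N := by decide
  have h1 := (phi_uE h0).1
  rw [h, map_one, Equiv.Perm.one_apply] at h1
  have h2 : evalL u0 0 ≠ 0 := by decide +kernel
  exact h2 h1.symm

theorem orderOf_uE : orderOf uE = 11 := by
  haveI : Fact (Nat.Prime 11) := ⟨by norm_num⟩
  exact orderOf_eq_prime uE_pow uE_ne

/-! ### the normalizing element -/

def nE : G := prodw nW

theorem nE_conj : nE * uE * nE⁻¹ = uE ^ 3 := by
  have h : prodw (nW.reverse ++ (u0 ++ nW)) = prodw (List.replicate 3 u0).flatten :=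
    prodw_eq_of_chk (by decide +kernel)
  rw [prodw_append, prodw_append, prodw_reverse, prodw_replicate] at h
  exact h

/-! ### the transpositions `xE` and `tE` -/

def xE : G := dT 1

def xw : List ℕ := pq.reverse ++ (wz ++ pq)

theorem tW1 : tW 40 1 = pq := by decide +kernel

theorem xE_eq : xE = prodw xw := by
  rw [xE, dT, tG, tW1, xw, prodw_append, prodw_append, prodw_reverse, zG]

theorem xE_mem_D : xE ∈ D := mem_D.mpr ⟨tG 1, rfl⟩

def tE : G := dT 1049

theorem tWp : tW 40 1049 = tp := by decide +kernel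

theorem tE_eq : tE = prodw tw := by
  rw [tE, dT, tG, tWp, tw, prodw_append, prodw_append, prodw_reverse, zG]

theorem tE_mem_D : tE ∈ D := mem_D.mpr ⟨tG 1049, rfl⟩

theorem orderOf_tE : orderOf tE = 2 := orderOf_D tE_mem_D

theorem tw_lt : ∀ l ∈ tw, l < nl := by decide

theorem phi_tE {p : ℕ} (hp : p < N) : phi tE p = evalL tw p := by
  rw [tE_eq, phi_prodw_apply _ tw_lt, evalw_eq_evalL _ tw_lt hp]

theorem uE_conj_tE : uE * tE * uE⁻¹ = tE := by
  have hp : (1049 : ℕ) < N := by decide
  have h1 : phi (uE * tG 1049) 0 = 1049 := by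
    rw [map_mul, Equiv.Perm.mul_apply, phi_tG hp, (phi_uE hp).1]
    decide +kernel
  have h2 : (uE * tG 1049) * zG * (uE * tG 1049)⁻¹ = dT 1049 := dT_eq hp h1
  show uE * dT 1049 * uE⁻¹ = dT 1049
  have h3 : uE * dT 1049 * uE⁻¹ = (uE * tG 1049) * zG * (uE * tG 1049)⁻¹ := by
    rw [dT]; group
  rw [h3, h2]

theorem tE_comm_uE : tE * uE = uE * tE := by
  have h := uE_conj_tE
  have : uE * tE = tE * uE := by
    calc uE * tE = (uE * tE * uE⁻¹) * uE := by group
      _ = tE * uE := by rw [h]
  exact this.symm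

/-! ### generation -/

def blk : ℕ → List ℕ
  | 0 => xw
  | 1 => u0
  | _ => u0.reverse

def expand (bl : List ℕ) : List ℕ :=
  List.rec (motive := fun _ => List ℕ) [] (fun b _ ih => blk b ++ ih) bl

theorem expand_cons (b : ℕ) (bl : List ℕ) : expand (b :: bl) = blk b ++ expand bl := rfl

theorem prodw_blk_mem (b : ℕ) : prodw (blk b) ∈ Subgroup.closure ({xE, uE} : Set G) := by
  rcases b with _ | _ | b
  · show prodw xw ∈ _
    rw [← xE_eq]
    exact Subgroup.subset_closure (Set.mem_insert _ _)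
  · exact Subgroup.subset_closure (Set.mem_insert_of_mem _ (Set.mem_singleton _))
  · show prodw u0.reverse ∈ _
    rw [prodw_reverse]
    exact Subgroup.inv_mem _ (Subgroup.subset_closure (Set.mem_insert_of_mem _ (Set.mem_singleton _)))

theorem prodw_expand_mem (bl : List ℕ) :
    prodw (expand bl) ∈ Subgroup.closure ({xE, uE} : Set G) := by
  induction bl with
  | nil => exact Subgroup.one_mem _
  | cons b bl ih =>
    rw [expand_cons, prodw_append]
    exact Subgroup.mul_mem _ ih (prodw_blk_mem b)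

/-- the word of `dT p` -/
def dwordT (p : ℕ) : List ℕ := (tW 40 p).reverse ++ (wz ++ tW 40 p)

theorem prodw_dwordT (p : ℕ) : prodw (dwordT p) = dT p := by
  rw [dwordT, prodw_append, prodw_append, prodw_reverse, dT, tG, zG]

/-- the generators are the transpositions at the points `gpL` -/
def chkGP : Bool :=
  (List.range 9).all fun l => Fi22Ord.chkBase ([l] ++ (dwordT (gpL.getD l 0)).reverse)

theorem chkGP_ok : chkGP = true := by decide +kernel

theorem gG_eq_dT {l : ℕ} (hl : l < nl) : gG l = dT (gpL.getD l 0) := by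
  have h := chkGP_ok
  simp only [chkGP, List.all_eq_true, List.mem_range] at h
  have h1 : prodw [l] = prodw (dwordT (gpL.getD l 0)) := prodw_eq_of_chk (h l hl)
  have h2 : prodw [l] = gG l := by simp [prodw]
  rw [← h2, h1, prodw_dwordT]

def chkGen (l : ℕ) : Bool :=
  ltAll (expand (genB.getD l [])) &&
    Nat.beq (evalL (expand (genB.getD l [])) 1) (gpL.getD l 0)

theorem GN : TCG.allD 9 chkGen = true := by decide +kernel

theorem chkGen_ok {l : ℕ} (hl : l < nl) : chkGen l = true :=
  (TCG.allD_iff _ _).mp GN l hl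

theorem gpL_lt {l : ℕ} (hl : l < nl) : gpL.getD l 0 < N := by
  have hl' : l < 9 := hl
  interval_cases l <;> decide

theorem gG_mem {l : ℕ} (hl : l < nl) : gG l ∈ Subgroup.closure ({xE, uE} : Set G) := by
  have h := chkGen_ok hl
  simp only [chkGen, Bool.and_eq_true] at h
  set g := prodw (expand (genB.getD l [])) with hg
  have hmem : g ∈ Subgroup.closure ({xE, uE} : Set G) := prodw_expand_mem _
  have h12 : (1 : ℕ) < N := by decide
  have hphi : phi (g * tG 1) 0 = gpL.getD l 0 := by
    rw [map_mul, Equiv.Perm.mul_apply, phi_tG h12, hg, phi_prodw_apply _ (ltAll_spec h.1),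
      evalw_eq_evalL _ (ltAll_spec h.1) h12]
    exact Nat.eq_of_beq_eq_true h.2
  have h1 := dT_eq (gpL_lt hl) hphi
  have h2 : g * xE * g⁻¹ = (g * tG 1) * zG * (g * tG 1)⁻¹ := by
    rw [xE, dT]; group
  rw [gG_eq_dT hl, ← h1, ← h2]
  exact Subgroup.mul_mem _ (Subgroup.mul_mem _ hmem
    (Subgroup.subset_closure (Set.mem_insert _ _))) (Subgroup.inv_mem _ hmem)

theorem hgenG' : Subgroup.closure {g : G | ∃ l, l < nl ∧ g = gG l} = ⊤ := by
  rw [eq_top_iff, ← PresentedGroup.closure_range_of]
  apply Subgroup.closure_mono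
  rintro _ ⟨a, rfl⟩
  exact ⟨idx a, idx_lt a, by rw [gG, gen_idx]⟩

theorem closure_xu : Subgroup.closure ({xE, uE} : Set G) = ⊤ := by
  rw [eq_top_iff, ← hgenG', Subgroup.closure_le]
  rintro g ⟨l, hl, rfl⟩
  exact gG_mem hl

end Cfsg.Agent.Helper17.Fi22Out
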