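import Cfsg.Agent.Helper17.Fi22Ord.Simple
import Cfsg.Agent.Helper17.TCGeneric2

/-! The automorphism of the presented `Fi22` induced by the symmetry `a ↔ g`, `b ↔ f`, `c ↔ e` of the
diagram, and the proof that it is not inner: it maps `⟨b, …, i⟩`, the stabilizer of the point `0` of
the 14080 points, to `⟨a, …, f, h, i⟩`, which fixes no point. -/

set_option autoImplicit false
set_option linter.all false
set_option maxRecDepth 100000

noncomputable section

namespace Cfsg.Agent.Helper17.Fi22Out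

open Cfsg.Spor Cfsg.Agent.Helper17.Fi22bTC Cfsg.Agent.Helper17.Fi22Ord

/-- the symmetry of the diagram -/
def piG : Gn → Gn
  | .a => .g
  | .b => .f
  | .c => .e
  | .d => .d
  | .e => .c
  | .f => .b
  | .g => .a
  | .h => .h
  | .i => .i

/-- the symmetry of the diagram on the letters -/
def piN : ℕ → ℕ
  | 0 => 6
  | 1 => 5
  | 2 => 4
  | 3 => 3
  | 4 => 2
  | 5 => 1
  | 6 => 0
  | 7 => 7
  | _ => 8

theorem piG_gen {l : ℕ} (hl : l < nl) : piG (gen l) = gen (piN l) := by
  have hl' : l < 9 := hl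
  interval_cases l <;> rfl

theorem piN_lt {l : ℕ} (hl : l < nl) : piN l < nl := by
  have hl' : l < 9 := hl
  interval_cases l <;> decide

theorem piN_piN {l : ℕ} (hl : l < nl) : piN (piN l) = l := by
  have hl' : l < 9 := hl
  interval_cases l <;> rfl

theorem label_pi (x y : Gn) :
    coxLabel Fi22.edges (piG x) (piG y) = coxLabel Fi22.edges x y := by
  cases x <;> cases y <;> rfl

def sigF (x : Gn) : G := PresentedGroup.of (piG x)

theorem E0 : FreeGroup.lift sigF ((Fi22.d * Fi22.c * Fi22.b * Fi22.d * Fi22.e * Fi22.f * Fi22.d * Fi22.h * Fi22.i) ^ 10) = 1 := by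
  have h : prodw (List.replicate 10 [8, 7, 3, 1, 2, 3, 5, 4, 3]).flatten = 1 :=
    prodw_eq_one (by decide +kernel)
  rw [prodw_replicate] at h
  rw [map_pow]
  simp only [map_mul, FreeGroup.lift_apply_of, sigF, piG]
  rw [← h]
  simp only [prodw, gG, gen, one_mul, mul_assoc]

theorem E1 : FreeGroup.lift sigF ((Fi22.a * Fi22.b * Fi22.c * Fi22.d * Fi22.e * Fi22.f * Fi22.h) ^ 9) = 1 := by
  have h : prodw (List.replicate 9 [7, 1, 2, 3, 4, 5, 6]).flatten = 1 :=
    prodw_eq_one (by decide +kernel)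
  rw [prodw_replicate] at h
  rw [map_pow]
  simp only [map_mul, FreeGroup.lift_apply_of, sigF, piG]
  rw [← h]
  simp only [prodw, gG, gen, one_mul, mul_assoc]

theorem E2 : FreeGroup.lift sigF ((Fi22.b * Fi22.c * Fi22.d * Fi22.e * Fi22.f * Fi22.g * Fi22.h) ^ 9) = 1 := by
  have h : prodw (List.replicate 9 [7, 0, 1, 2, 3, 4, 5]).flatten = 1 :=
    prodw_eq_one (by decide +kernel)
  rw [prodw_replicate] at h
  rw [map_pow]
  simp only [map_mul, FreeGroup.lift_apply_of, sigF, piG]
  rw [← h]
  simp only [prodw, gG, gen, one_mul, mul_assoc]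

theorem hsig : ∀ r ∈ Rels, FreeGroup.lift sigF r = 1 := by
  intro r hr
  rcases hr with ⟨x, _, y, _, rfl⟩ | hr
  · rw [map_pow, map_mul, FreeGroup.lift_apply_of, FreeGroup.lift_apply_of, ← label_pi]
    exact cox (piG x) (piG y)
  · have hr' : r ∈ Fi22.extra := hr
    simp only [Fi22.extra, List.mem_cons, List.mem_nil_iff, or_false] at hr'
    rcases hr' with rfl | rfl | rfl
    · exact E0
    · exact E1
    · exact E2

/-- the endomorphism induced by the symmetry of the diagram -/
def sigH : G →* G := PresentedGroup.toGroup hsig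

theorem sigH_gG {l : ℕ} (hl : l < nl) : sigH (gG l) = gG (piN l) := by
  unfold gG sigH
  rw [PresentedGroup.toGroup.of, sigF, piG_gen hl]

theorem sigH_sigH (x : G) : sigH (sigH x) = x := by
  have h : (sigH.comp sigH) = MonoidHom.id G := by
    apply MonoidHom.eq_of_eqOn_dense hgenG
    rintro g ⟨l, hl, rfl⟩
    show sigH (sigH (gG l)) = gG l
    rw [sigH_gG hl, sigH_gG (piN_lt hl), piN_piN hl]
  exact DFunLike.congr_fun h x

/-- the automorphism induced by the symmetry of the diagram -/
def sigA : MulAut G :=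
  { toFun := sigH
    invFun := sigH
    left_inv := sigH_sigH
    right_inv := sigH_sigH
    map_mul' := sigH.map_mul }

theorem sigA_gG {l : ℕ} (hl : l < nl) : sigA (gG l) = gG (piN l) := sigH_gG hl

/-! ### the automorphism is not inner -/

theorem phi_range (g : G) : (∀ p, p < N → phi g p < N) ∧ (∀ p, N ≤ p → phi g p = p) := by
  have hg : g ∈ Subgroup.closure {g : G | ∃ l, l < nl ∧ g = gG l} := by rw [hgenG]; trivial
  induction hg using Subgroup.closure_induction with
  | mem x hx =>
    obtain ⟨l, hl, rfl⟩ := hx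
    rw [phi_gG hl]
    exact ⟨fun p hp => by rw [σ_apply]; exact sg_lt hp, fun p hp => by rw [σ_apply]; exact sg_ge hp⟩
  | one => simp
  | mul x y _ _ hx hy =>
    refine ⟨fun p hp => ?_, fun p hp => ?_⟩
    · rw [map_mul, Equiv.Perm.mul_apply]; exact hx.1 _ (hy.1 p hp)
    · rw [map_mul, Equiv.Perm.mul_apply, hy.2 p hp, hx.2 p hp]
  | inv x _ hx =>
    have h2 : ∀ p, N ≤ p → phi x⁻¹ p = p := by
      intro p hp
      rw [map_inv, Equiv.Perm.inv_eq_iff_eq, hx.2 p hp]
    refine ⟨fun p hp => ?_, h2⟩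
    by_contra hcon
    have hge : N ≤ phi x⁻¹ p := Nat.le_of_not_lt hcon
    have h3 := hx.2 _ hge
    have h4 : phi x (phi x⁻¹ p) = p := by
      rw [map_inv]; exact Equiv.apply_symm_apply (phi x) p
    rw [h4] at h3
    omega

/-- the letters `b, …, i` fix the point `0` -/
def chkFix0 : Bool := TCG.allD 8 fun k => Nat.beq (lk2 (Nat.succ k) 0) 0

theorem chkFix0_ok : chkFix0 = true := by decide +kernel

/-- no point is fixed by all of `a, …, f, h, i` -/
def chkNoFix (p : ℕ) : Bool :=
  !(Nat.beq (lk2 0 p) p && Nat.beq (lk2 1 p) p && Nat.beq (lk2 2 p) p && Nat.beq (lk2 3 p) p &&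
    Nat.beq (lk2 4 p) p && Nat.beq (lk2 5 p) p && Nat.beq (lk2 7 p) p && Nat.beq (lk2 8 p) p)

theorem chkNoFix_ok : TCG.allD 14080 chkNoFix = true := by decide +kernel

theorem phi_gG_apply {l : ℕ} (hl : l < nl) {p : ℕ} (hp : p < N) : phi (gG l) p = lk2 l p := by
  rw [phi_gG hl, σ_apply]
  unfold sg
  rw [if_pos ⟨hl, hp⟩, tb_eq]

theorem sigA_not_inner : ∀ t : G, sigA ≠ MulAut.conj t := by
  intro t h
  have h0 : (0 : ℕ) < N := by decide
  set p := phi t 0 with hp
  have hpN : p < N := (phi_range t).1 0 h0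
  -- every `piN l`, `1 ≤ l ≤ 8`, fixes `p`
  have hfix : ∀ l, 1 ≤ l → l < nl → lk2 (piN l) p = p := by
    intro l h1 hl
    have e1 : sigA (gG l) = t * gG l * t⁻¹ := by rw [h, MulAut.conj_apply]
    rw [sigA_gG hl] at e1
    have e2 : phi (gG (piN l)) p = p := by
      have e3 : phi t⁻¹ (phi t 0) = 0 := by
        rw [map_inv]; exact (phi t).symm_apply_apply 0
      have e4 : phi (gG l) 0 = 0 := by
        rw [phi_gG_apply hl h0]
        have hc := chkFix0_ok
        rw [chkFix0, TCG.allD_iff] at hc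
        have := hc (l - 1) (by have : l < 9 := hl; omega)
        have e : Nat.succ (l - 1) = l := by omega
        rw [e] at this
        exact Nat.eq_of_beq_eq_true this
      rw [e1, map_mul, map_mul, Equiv.Perm.mul_apply, Equiv.Perm.mul_apply, hp, e3, e4]
    rwa [phi_gG_apply (piN_lt hl) hpN] at e2
  have hc := (TCG.allD_iff _ _).mp chkNoFix_ok p hpN
  have f0 := hfix 6 (by norm_num) (by decide)
  have f1 := hfix 5 (by norm_num) (by decide)
  have f2 := hfix 4 (by norm_num) (by decide)
  have f3 := hfix 3 (by norm_num) (by decide)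
  have f4 := hfix 2 (by norm_num) (by decide)
  have f5 := hfix 1 (by norm_num) (by decide)
  have f7 := hfix 7 (by norm_num) (by decide)
  have f8 := hfix 8 (by norm_num) (by decide)
  simp only [piN] at f0 f1 f2 f3 f4 f5 f7 f8
  rw [chkNoFix, f0, f1, f2, f3, f4, f5, f7, f8] at hc
  simp [Nat.beq_refl] at hc

end Cfsg.Agent.Helper17.Fi22Out
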