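import Cfsg.Agent.Helper17.Fi22Out.Gen
import Cfsg.Agent.Helper17.Fi22Out.Sigma
import Cfsg.Agent.Helper8.S2079ABSA
import Cfsg.Agent.Helper19.S2079ABSB
import Cfsg.Agent.Helper22.OutOne

/-! The outer automorphism group of `Fi22` has order 2. -/

set_option autoImplicit false
set_option linter.all false
set_option maxRecDepth 100000

noncomputable section

namespace Cfsg.Agent.Helper17.Fi22Out

open Cfsg.Spor Cfsg.Agent.Helper17.Fi22aTC Cfsg.Agent.Helper17.Fi22Trans

theorem phi_rangeA (g : G) : (∀ p, p < N → phi g p < N) ∧ (∀ p, N ≤ p → phi g p = p) := by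
  have hg : g ∈ Subgroup.closure {g : G | ∃ l, l < nl ∧ g = gG l} := by rw [hgenG']; trivial
  induction hg using Subgroup.closure_induction with
  | mem x hx =>
    obtain ⟨l, hl, rfl⟩ := hx
    rw [phi_gG hl]
    exact ⟨fun p hp => by rw [σ_apply]; exact sg_lt hp, fun p hp => by rw [σ_apply]; exact sg_ge hp⟩
  | one => simp
  | mul x y _ _ hx hy =>
    refine ⟨fun p hp => ?_, fun p hp => ?_⟩
    · rw [map_mul, Equiv.Perm.mul_apply]; exact hx.1 _ (hy.1 p hp)
    · rw [map_mul, Equiv.Perm.mul_apply, hy.2 p hp, hx.2 p hp]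
  | inv x _ hx =>
    have h2 : ∀ p, N ≤ p → phi x⁻¹ p = p := by
      intro p hp
      rw [map_inv, Equiv.Perm.inv_eq_iff_eq, hx.2 p hp]
    refine ⟨fun p hp => ?_, h2⟩
    by_contra hcon
    have hge : N ≤ phi x⁻¹ p := Nat.le_of_not_lt hcon
    have h3 := hx.2 _ hge
    have h4 : phi x (phi x⁻¹ p) = p := by
      rw [map_inv]; exact Equiv.apply_symm_apply (phi x) p
    rw [h4] at h3
    omega

theorem phi_ltA (g : G) {p : ℕ} (hp : p < N) : phi g p < N := (phi_rangeA g).1 p hp

/-- the transposition determines the point -/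
theorem conj_zG_inj {a b : G} (h : a * zG * a⁻¹ = b * zG * b⁻¹) : phi a 0 = phi b 0 := by
  have hc : b⁻¹ * a ∈ Hs := by
    rw [← cent_eq, Subgroup.mem_centralizer_iff]
    intro y hy
    rw [Set.mem_singleton_iff] at hy
    rw [hy]
    have e1 : zG * (b⁻¹ * a) = b⁻¹ * (b * zG * b⁻¹) * a := by group
    have e2 : b⁻¹ * a * zG = b⁻¹ * (a * zG * a⁻¹) * a := by group
    rw [e1, e2, h]
  rw [← stab0, map_mul, map_inv, Equiv.Perm.mul_apply, Equiv.Perm.inv_eq_iff_eq] at hc
  exact hc

theorem dT_inj {j k : ℕ} (hj : j < N) (hk : k < N) (h : dT j = dT k) : j = k := by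
  have := conj_zG_inj h
  rwa [phi_tG hj, phi_tG hk] at this

/-- `1049` is the only point fixed by `uE` -/
def chkFixU (k : ℕ) : Bool := !(Nat.beq (evalL u0 k) k) || Nat.beq k 1049

theorem chkFixU_ok : TCG.allD 3510 chkFixU = true := by decide +kernel

theorem fix_uE {k : ℕ} (hk : k < N) (h : phi uE k = k) : k = 1049 := by
  have hc := (TCG.allD_iff _ _).mp chkFixU_ok k hk
  rw [(phi_uE hk).1] at h
  rw [chkFixU, h, Nat.beq_refl] at hc
  simpa using nbeq.mp (by simpa using hc)

theorem conj_of_D {d : G} (hd : d ∈ D) : ∃ j, j < N ∧ d = dT j := by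
  obtain ⟨c, rfl⟩ := mem_D.mp hd
  have h0 : (0 : ℕ) < N := by decide
  exact ⟨phi c 0, phi_ltA c h0, dT_eq (phi_ltA c h0) rfl⟩

theorem tE_class (g : G) : g * tE * g⁻¹ ∈ D := by
  rw [mem_D]
  refine ⟨g * tG 1049, ?_⟩
  rw [tE, dT]; group

theorem class_tE {d : G} (hd : d ∈ D) : ∃ g : G, d = g * tE * g⁻¹ := by
  obtain ⟨c, rfl⟩ := mem_D.mp hd
  refine ⟨c * (tG 1049)⁻¹, ?_⟩
  rw [tE, dT]; group

open Classical in
/-- the candidates for the image of `xE` -/
def SF : Finset G :=
  ((Finset.range 11) ×ˢ (Finset.range 2)).image fun q =>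
    (uE ^ q.1 * tE ^ q.2) * xE * (uE ^ q.1 * tE ^ q.2)⁻¹

open Classical in
theorem card_SF : SF.card ≤ 2 * 11 := by
  refine (Finset.card_image_le).trans ?_
  simp

open Classical in
/-- an automorphism preserving the class of `tE` and fixing `uE` maps `xE` into `SF` -/
theorem aut_x (φ : MulAut G) (hinv : ∀ g : G, ∃ h : G, φ (g * tE * g⁻¹) = h * tE * h⁻¹)
    (hu : φ uE = uE) : φ xE ∈ SF := by
  have h0 : (0 : ℕ) < N := by decide
  have h1 : (1 : ℕ) < N := by decide
  have hp : (1049 : ℕ) < N := by decide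
  -- `φ tE = tE`
  have htE : φ tE = tE := by
    obtain ⟨h, hh⟩ := hinv 1
    rw [one_mul, inv_one, mul_one] at hh
    obtain ⟨k, hk, hkd⟩ := conj_of_D (tE_class h)
    rw [← hh] at hkd
    have hcomm : uE * φ tE * uE⁻¹ = φ tE := by
      have := congrArg φ uE_conj_tE
      rwa [map_mul, map_mul, map_inv, hu] at this
    have h2 : dT (phi uE k) = dT k := by
      have e := dT_eq (phi_ltA uE hk) (a := uE * tG k) (by
        rw [map_mul, Equiv.Perm.mul_apply, phi_tG hk])
      rw [← e, ← hkd, ← hcomm, hkd, dT]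
      group
    have h3 := dT_inj (phi_ltA uE hk) hk h2
    have h4 := fix_uE hk h3
    rw [hkd, h4, tE]
  -- `φ xE = dT j`
  obtain ⟨g, hg⟩ := class_tE xE_mem_D
  obtain ⟨h, hh⟩ := hinv g
  rw [← hg] at hh
  obtain ⟨j, hjN, hdj'⟩ := conj_of_D (tE_class h)
  rw [← hh] at hdj'
  have hdj : φ xE = dT j := hdj'
  have hpat : ∀ i, 1 ≤ i → i ≤ 5 → cT j i = cT 1 i := by
    intro i _ _
    rw [Bool.eq_iff_iff, cT_iff hjN, cT_iff h1, ← hdj]
    show _ ↔ xE * (uE ^ i * xE * (uE ^ i)⁻¹) = (uE ^ i * xE * (uE ^ i)⁻¹) * xE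
    constructor
    · intro h
      apply φ.injective
      simp only [map_mul, map_pow, map_inv, hu]
      exact h
    · intro h
      have := congrArg φ h
      simpa only [map_mul, map_pow, map_inv, hu] using this
  have hpp : cP j = cP 1 := by
    rw [Bool.eq_iff_iff, cP_iff hjN, cP_iff h1, ← hdj]
    show _ ↔ xE * tE = tE * xE
    constructor
    · intro h
      apply φ.injective
      rw [map_mul, map_mul, htE]
      exact h
    · intro h
      have := congrArg φ h
      rwa [map_mul, map_mul, htE] at this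
  obtain ⟨i, hi, hji⟩ := orb_spec (cand hjN hpat hpp)
  rw [SF, Finset.mem_image]
  rcases hji with hji | hji
  · refine ⟨(i, 0), Finset.mem_product.mpr ⟨Finset.mem_range.mpr hi, Finset.mem_range.mpr (by norm_num)⟩, ?_⟩
    have e := dT_eq hjN (a := uE ^ i * tG 1) (by
      rw [map_mul, Equiv.Perm.mul_apply, phi_tG h1, (phi_uE_pow i h1).1, hji])
    rw [hdj, ← e, xE, dT]
    simp only [pow_zero, mul_one]
    group
  · refine ⟨(i, 1), Finset.mem_product.mpr ⟨Finset.mem_range.mpr hi, Finset.mem_range.mpr (by norm_num)⟩, ?_⟩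
    have hb : evalL tw 1 < N := by
      rw [← phi_tE h1]; exact phi_ltA tE h1
    have e := dT_eq hjN (a := uE ^ i * tE * tG 1) (by
      rw [map_mul, map_mul, Equiv.Perm.mul_apply, Equiv.Perm.mul_apply, phi_tG h1, phi_tE h1,
        (phi_uE_pow i hb).1, hji])
    rw [hdj, ← e, xE, dT]
    simp only [pow_one]
    group

theorem card_G' : Nat.card G = 11 * 5869250150400 := by
  have h := Fi22Ord.card_G
  exact h

theorem residues : ∀ k, 0 < k → k < 11 →
    ∃ j, k % 11 = 3 ^ j % 11 ∨ k % 11 = (2 * 3 ^ j) % 11 := by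
  intro k h0 h1
  interval_cases k
  · exact ⟨0, Or.inl (by norm_num)⟩
  · exact ⟨0, Or.inr (by norm_num)⟩
  · exact ⟨1, Or.inl (by norm_num)⟩
  · exact ⟨4, Or.inl (by norm_num)⟩
  · exact ⟨3, Or.inl (by norm_num)⟩
  · exact ⟨1, Or.inr (by norm_num)⟩
  · exact ⟨2, Or.inr (by norm_num)⟩
  · exact ⟨4, Or.inr (by norm_num)⟩
  · exact ⟨2, Or.inl (by norm_num)⟩
  · exact ⟨3, Or.inr (by norm_num)⟩

theorem finG' : Finite G := Fi22Ord.finG

theorem center_G : Subgroup.center G = ⊥ := by
  haveI := isSimpleG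
  haveI : Finite G := finG'
  apply Cfsg.Agent.Helper22.OutTwo.center_eq_bot_of_simple
  rw [card_G']
  exact Nat.not_prime_mul (by norm_num) (by norm_num)

theorem card_mulAut_le : Nat.card (MulAut G) ≤ 2 * Nat.card G := by
  classical
  haveI : Fact (Nat.Prime 11) := ⟨by norm_num⟩
  haveI : Finite G := finG'
  have hinv := class_invariant 11 5869250150400 (by norm_num) card_G' (by norm_num) center_G
    xE uE tE closure_xu orderOf_uE orderOf_tE tE_comm_uE SF card_SF aut_x
  exact card_mulAut_le_of_invariant 11 5869250150400 (by norm_num) card_G' (by norm_num)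
    xE uE nE tE closure_xu orderOf_uE orderOf_tE tE_comm_uE 3 2 nE_conj residues SF card_SF
    hinv aut_x

theorem sigA_not_mem : (sigA : MulAut G) ∉ Cfsg.Inn G := by
  rintro ⟨t, ht⟩
  exact sigA_not_inner t ht.symm

theorem card_out : Nat.card (Cfsg.Out G) = 2 := by
  haveI : Finite G := finG'
  exact Cfsg.Agent.Helper14.J3Out.card_out_eq_two center_G card_mulAut_le sigA sigA_not_mem

end Cfsg.Agent.Helper17.Fi22Out
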