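import Cfsg.Agent.Helper17.Fi22Out.Data
import Cfsg.Agent.Helper17.TCGeneric2

/-! The spanning tree of the Schreier graph on the 3510 points: coset representatives `tG j` with
`phi (tG j) 0 = j`, and a kernel-friendly evaluation of their inverses. -/

set_option autoImplicit false
set_option linter.all false
set_option maxRecDepth 100000

noncomputable section

namespace Cfsg.Agent.Helper17.Fi22Out

open Cfsg.Spor Cfsg.Agent.Helper17.Fi22aTC Cfsg.Agent.Helper17.Fi22Trans

/-- evaluate `e` before passing it on (kernel: the major premise of `Nat.rec` is put in normal form) -/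
def force {α : Sort*} (e : ℕ) (k : ℕ → α) : α :=
  Nat.rec (motive := fun _ => α) (k 0) (fun n _ => k (Nat.succ n)) e

theorem force_eq {α : Sort*} (e : ℕ) (k : ℕ → α) : force e k = k e := by
  cases e <;> rfl

/-- table lookup by letter -/
def lk2 (l i : ℕ) : ℕ := lk (col l) i

/-- evaluation of a word of letters -/
def evalL (w : List ℕ) (i : ℕ) : ℕ :=
  List.rec (motive := fun _ => ℕ → ℕ) (fun i => i) (fun l _ ih i => ih (lk2 l i)) w i

theorem evalL_cons (l : ℕ) (w : List ℕ) (i : ℕ) : evalL (l :: w) i = evalL w (lk2 l i) := rfl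

theorem evalL_eq (w : List ℕ) (i : ℕ) : evalL w i = evalC (w.map col) i := by
  induction w generalizing i with
  | nil => rfl
  | cons l w ih => rw [List.map_cons, evalC_cons, evalL_cons, ih]; rfl

theorem evalw_eq_evalL (w : List ℕ) (hw : ∀ l ∈ w, l < nl) {i : ℕ} (hi : i < N) :
    evalw w i = evalL w i := by
  rw [evalw_eq_evalC w hw hi, evalL_eq]

def ent (j : ℕ) : ℕ := Nat.land (Nat.shiftRight treeT (Nat.mul 16 j)) 65535

def par (j : ℕ) : ℕ := Nat.land (ent j) 4095

def lab (j : ℕ) : ℕ := Nat.shiftRight (ent j) 12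

/-- apply the inverse of the coset representative of `j` to the point `p` -/
def upF (f : ℕ) : ℕ → ℕ → ℕ :=
  Nat.rec (motive := fun _ => ℕ → ℕ → ℕ) (fun _ p => p)
    (fun _ ih j p => cond (Nat.beq j 0) p
      (force (ent j) fun e => force (lk2 (Nat.shiftRight e 12) p) fun p' =>
        ih (Nat.land e 4095) p')) f

/-- the image of the point `0` under the coset representative of `j` -/
def dnF (f : ℕ) : ℕ → ℕ :=
  Nat.rec (motive := fun _ => ℕ → ℕ) (fun _ => 0)
    (fun _ ih j => cond (Nat.beq j 0) 0
      (force (ent j) fun e => lk2 (Nat.shiftRight e 12) (ih (Nat.land e 4095)))) f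

/-- the word of the coset representative of `j` -/
def tW : ℕ → ℕ → List ℕ
  | 0, _ => []
  | f + 1, j => if j = 0 then [] else tW f (par j) ++ [lab j]

theorem upF_zero (j p : ℕ) : upF 0 j p = p := rfl

theorem upF_succ (f j p : ℕ) :
    upF (f + 1) j p = if j = 0 then p else upF f (par j) (lk2 (lab j) p) := by
  show cond (Nat.beq j 0) p (force (ent j) fun e => force (lk2 (Nat.shiftRight e 12) p) fun p' =>
        upF f (Nat.land e 4095) p') = _
  rw [force_eq, force_eq]
  by_cases h : j = 0
  · subst h; rfl
  · rw [if_neg h]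
    have : Nat.beq j 0 = false := by
      cases hb : Nat.beq j 0
      · rfl
      · exact absurd (nbeq.mp hb) h
    rw [this]
    rfl

theorem dnF_zero (j : ℕ) : dnF 0 j = 0 := rfl

theorem dnF_succ (f j : ℕ) :
    dnF (f + 1) j = if j = 0 then 0 else lk2 (lab j) (dnF f (par j)) := by
  show cond (Nat.beq j 0) 0 (force (ent j) fun e =>
    lk2 (Nat.shiftRight e 12) (dnF f (Nat.land e 4095))) = _
  rw [force_eq]
  by_cases h : j = 0
  · subst h; rfl
  · rw [if_neg h]
    have : Nat.beq j 0 = false := by
      cases hb : Nat.beq j 0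
      · rfl
      · exact absurd (nbeq.mp hb) h
    rw [this]
    rfl

theorem evalL_append (w : List ℕ) (l i : ℕ) : evalL (w ++ [l]) i = lk2 l (evalL w i) := by
  induction w generalizing i with
  | nil => rfl
  | cons a w ih => rw [List.cons_append, evalL_cons, evalL_cons, ih]

theorem dnF_eq (f j : ℕ) : dnF f j = evalL (tW f j) 0 := by
  induction f generalizing j with
  | zero => rfl
  | succ f ih =>
    rw [dnF_succ, tW]
    by_cases h : j = 0
    · rw [if_pos h, if_pos h]; rfl
    · rw [if_neg h, if_neg h, evalL_append, ih]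

theorem upF_eq (f j p : ℕ) : upF f j p = evalL (tW f j).reverse p := by
  induction f generalizing j p with
  | zero => rfl
  | succ f ih =>
    rw [upF_succ, tW]
    by_cases h : j = 0
    · rw [if_pos h, if_pos h]; rfl
    · rw [if_neg h, if_neg h, List.reverse_append, List.reverse_singleton, List.singleton_append,
        evalL_cons, ih]

/-- the check of the tree at the point `j` -/
def chkT (j : ℕ) : Bool :=
  Nat.blt (lab j) 9 && Nat.blt (par j) 3510 && Nat.beq (dnF 40 j) j

theorem TR : TCG.allD 3510 chkT = true := by decide +kernel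

theorem chkT_all : ∀ j, j < N → chkT j = true := by
  intro j hj
  exact (TCG.allD_iff _ _).mp TR j hj

theorem lab_lt {j : ℕ} (hj : j < N) : lab j < nl := by
  have := chkT_all j hj
  simp only [chkT, Bool.and_eq_true, Nat.blt_eq] at this
  exact this.1.1

theorem par_lt {j : ℕ} (hj : j < N) : par j < N := by
  have := chkT_all j hj
  simp only [chkT, Bool.and_eq_true, Nat.blt_eq] at this
  exact this.1.2

theorem dnF_ok {j : ℕ} (hj : j < N) : dnF 40 j = j := by
  have := chkT_all j hj
  simp only [chkT, Bool.and_eq_true] at this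
  exact nbeq.mp this.2

theorem tW_lt (f : ℕ) {j : ℕ} (hj : j < N) : ∀ l ∈ tW f j, l < nl := by
  induction f generalizing j with
  | zero => intro l hl; simp [tW] at hl
  | succ f ih =>
    intro l hl
    rw [tW] at hl
    by_cases h : j = 0
    · rw [if_pos h] at hl; simp at hl
    · rw [if_neg h, List.mem_append, List.mem_singleton] at hl
      rcases hl with hl | rfl
      · exact ih (par_lt hj) l hl
      · exact lab_lt hj

/-- the coset representative of the point `j` -/
def tG (j : ℕ) : G := prodw (tW 40 j)

theorem phi_tG {j : ℕ} (hj : j < N) : phi (tG j) 0 = j := by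
  rw [tG, phi_prodw_apply _ (tW_lt 40 hj), evalw_eq_evalL _ (tW_lt 40 hj) (by decide : 0 < N),
    ← dnF_eq, dnF_ok hj]

theorem phi_tG_inv {j : ℕ} (hj : j < N) {p : ℕ} (hp : p < N) :
    phi (tG j)⁻¹ p = upF 40 j p := by
  have hlt : ∀ l ∈ (tW 40 j).reverse, l < nl := by
    intro l hl
    exact tW_lt 40 hj l (List.mem_reverse.mp hl)
  rw [tG, ← prodw_reverse, phi_prodw_apply _ hlt, evalw_eq_evalL _ hlt hp, upF_eq]

end Cfsg.Agent.Helper17.Fi22Out
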